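import Groth.Agent.Lib.UnivSubm25.Graph

/-!
# Descent of morphisms to étale schemes along étale-submersive morphisms
-/

set_option autoImplicit false
set_option backward.isDefEq.respectTransparency.types false
universe u

open CategoryTheory CategoryTheory.Limits AlgebraicGeometry MorphismProperty TopologicalSpace

namespace Groth.Agent.DescEt12

open UnivSubm25

variable {S X Y : Scheme.{u}} (p : X ⟶ S) (q : Y ⟶ S) [Etale q]

theorem exists_desc_etale {S' : Scheme.{u}} (g : S' ⟶ S) (hg : Surjective g)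
    (hquot : Topology.IsQuotientMap (pullback.fst (pullback.fst p q ≫ p) g))
    (φ : pullback p g ⟶ Y) (hφ : φ ≫ q = pullback.snd p g ≫ g)
    (hcoc : ∀ {T : Scheme.{u}} (x : T ⟶ X) (s₁ s₂ : T ⟶ S') (h₁ : x ≫ p = s₁ ≫ g)
      (h₂ : x ≫ p = s₂ ≫ g), pullback.lift x s₁ h₁ ≫ φ = pullback.lift x s₂ h₂ ≫ φ) :
    ∃! u : X ⟶ Y, u ≫ q = p ∧ φ = pullback.fst p g ≫ u := by
  haveI hgsurj : Surjective g := hg
  let Z : Scheme.{u} := pullback p q
  let r : Z ⟶ S := pullback.fst p q ≫ p
  let b : pullback r g ⟶ Z := pullback.fst r g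
  have hb : Topology.IsQuotientMap b := hquot
  let γ : pullback p g ⟶ pullback r g :=
    pullback.lift (pullback.lift (pullback.fst p g) φ (by rw [pullback.condition, hφ]))
      (pullback.snd p g) (by
        show _ ≫ pullback.fst p q ≫ p = _
        rw [pullback.lift_fst_assoc, pullback.condition])
  let π : pullback r g ⟶ pullback p g :=
    pullback.map r g p g (pullback.fst p q) (𝟙 S') (𝟙 S) (Category.comp_id _) (by simp)
  have hπ : IsPullback π b (pullback.fst p g) (pullback.fst p q) :=
    IsPullback.of_right (h₁₂ := pullback.snd p g) (v₁₃ := g) (h₂₂ := p)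
      (by
        rw [show π ≫ pullback.snd p g = pullback.snd r g by simp [π, pullback.map, pullback.lift_snd]]
        exact (IsPullback.of_hasPullback r g).flip)
      (pullback.lift_fst _ _ _) (IsPullback.of_hasPullback p g).flip
  haveI : Etale (pullback.fst p q) := MorphismProperty.pullback_fst _ _ ‹Etale q›
  haveI : Etale π := MorphismProperty.of_isPullback hπ.flip ‹Etale (pullback.fst p q)›
  have hγπ : γ ≫ π = 𝟙 _ := by
    apply pullback.hom_ext
    · simp [γ, π, b, pullback.map, pullback.lift_fst, pullback.lift_fst_assoc]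
    · simp [γ, π, pullback.map, pullback.lift_snd, pullback.lift_snd_assoc]
  haveI := IsQuot25.isOpenImmersion_section π γ hγπ
  -- criterion for lying in the image
  have key : ∀ {L : Type u} [Field L] (a : Spec (CommRingCat.of L) ⟶ pullback r g),
      (∀ t, a t ∈ γ.opensRange) → a ≫ b ≫ pullback.snd p q = a ≫ π ≫ φ := by
    intro L _ a ha
    let l := IsOpenImmersion.lift γ a (by rintro _ ⟨t, rfl⟩; exact ha t)
    have hl : l ≫ γ = a := IsOpenImmersion.lift_fac _ _ _
    rw [← hl, Category.assoc, Category.assoc, reassoc_of% hγπ]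
    simp [γ, b, pullback.lift_fst_assoc, pullback.lift_snd]
  have key' : ∀ {L : Type u} [Field L] (a : Spec (CommRingCat.of L) ⟶ pullback r g),
      a ≫ b ≫ pullback.snd p q = a ≫ π ≫ φ → ∀ t, a t ∈ γ.opensRange := by
    intro L _ a ha t
    refine ⟨(a ≫ π) t, ?_⟩
    rw [← Scheme.Hom.comp_apply]
    refine congrArg (fun m : _ ⟶ pullback r g => m t) ?_
    apply pullback.hom_ext
    · apply pullback.hom_ext
      · simp [γ, π, pullback.map, pullback.lift_fst, pullback.lift_fst_assoc]
      · simpa [γ, b, pullback.lift_fst, pullback.lift_fst_assoc, pullback.lift_snd] using ha.symm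
    · simp [γ, π, pullback.map, pullback.lift_snd, pullback.lift_snd_assoc]
  have hindep : ∀ {L : Type u} [Field L] (a a' : Spec (CommRingCat.of L) ⟶ pullback r g),
      a ≫ b = a' ≫ b → a ≫ π ≫ φ = a' ≫ π ≫ φ := by
    intro L _ a a' e
    have e1 : a ≫ π ≫ pullback.fst p g = a' ≫ π ≫ pullback.fst p g := by
      rw [hπ.w, reassoc_of% e]
    have hw : ∀ c : Spec (CommRingCat.of L) ⟶ pullback r g,
        (c ≫ π ≫ pullback.fst p g) ≫ p = (c ≫ π ≫ pullback.snd p g) ≫ g := fun c => by
      simp only [Category.assoc, pullback.condition]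
    have := hcoc (a ≫ π ≫ pullback.fst p g) (a ≫ π ≫ pullback.snd p g) (a' ≫ π ≫ pullback.snd p g)
      (hw a) (by rw [e1]; exact hw a')
    rw [show pullback.lift _ _ (hw a) = a ≫ π by apply pullback.hom_ext <;> simp [pullback.lift_fst, pullback.lift_snd],
      show pullback.lift _ (a' ≫ π ≫ pullback.snd p g) (by rw [e1]; exact hw a') = a' ≫ π by
        apply pullback.hom_ext <;> simp [pullback.lift_fst, pullback.lift_snd, e1]] at this
    rwa [Category.assoc, Category.assoc] at this
  -- saturation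
  have hsat : b ⁻¹' (b '' (γ.opensRange : Set ↥(pullback r g))) = (γ.opensRange : Set ↥(pullback r g)) := by
    ext z
    refine ⟨?_, fun hz => ⟨z, hz, rfl⟩⟩
    rintro ⟨w, hw, e⟩
    obtain ⟨m, hm₁, hm₂⟩ := Scheme.Pullback.exists_preimage_pullback (f := b) (g := b) w z e
    let c := (pullback b b : Scheme).fromSpecResidueField m
    let pt : Spec ((pullback b b : Scheme).residueField m) := IsLocalRing.closedPoint _
    have hc : c pt = m := Scheme.fromSpecResidueField_apply m pt
    have h1 := key (L := (pullback b b : Scheme).residueField m) (c ≫ pullback.fst b b) fun t => by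
      rw [Scheme.Hom.comp_apply, show c t = m from Scheme.fromSpecResidueField_apply m t, hm₁]
      exact hw
    have e2 : (c ≫ pullback.fst b b) ≫ b = (c ≫ pullback.snd b b) ≫ b := by
      simp only [Category.assoc, pullback.condition]
    have h2 := hindep (L := (pullback b b : Scheme).residueField m) _ _ e2
    have h3 := key' (L := (pullback b b : Scheme).residueField m) (c ≫ pullback.snd b b) (by
      rw [← h2, ← h1, ← Category.assoc _ b, ← Category.assoc _ b, e2]) pt
    rwa [Scheme.Hom.comp_apply, hc, hm₂] at h3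
  let U : Z.Opens := ⟨b '' (γ.opensRange : Set ↥(pullback r g)),
    hb.isOpen_preimage.1 (by rw [hsat]; exact γ.opensRange.2)⟩
  have hUsurj : Surjective (U.ι ≫ pullback.fst p q) := by
    refine ⟨fun x => ?_⟩
    haveI : Surjective (pullback.fst p g) := MorphismProperty.pullback_fst _ _ hgsurj
    obtain ⟨x', rfl⟩ := (pullback.fst p g).surjective x
    refine ⟨⟨b (γ x'), ⟨γ x', ⟨x', rfl⟩, rfl⟩⟩, ?_⟩
    rw [Scheme.Hom.comp_apply]
    show pullback.fst p q (b (γ x')) = _
    rw [← Scheme.Hom.comp_apply, ← Scheme.Hom.comp_apply]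
    refine congrArg (fun m : pullback p g ⟶ X => m x') ?_
    simp [γ, b, pullback.lift_fst_assoc, pullback.lift_fst]
  have hUinj : UniversallyInjective (U.ι ≫ pullback.fst p q) := by
    set π₀ := U.ι ≫ pullback.fst p q with hπ₀
    rw [universallyInjective_eq_diagonal]
    show Surjective (pullback.diagonal π₀)
    refine ⟨fun z => ?_⟩
    let c := (pullback π₀ π₀ : Scheme).fromSpecResidueField z
    let x := c ≫ pullback.fst π₀ π₀ ≫ π₀
    haveI : Surjective (pullback.fst (x ≫ p) g) := MorphismProperty.pullback_fst _ _ hgsurj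
    obtain ⟨t, -⟩ := (pullback.fst (x ≫ p) g).surjective (IsLocalRing.closedPoint _)
    let L := (pullback (x ≫ p) g : Scheme).residueField t
    let d := (pullback (x ≫ p) g : Scheme).fromSpecResidueField t
    let c' : Spec (CommRingCat.of L) ⟶ pullback π₀ π₀ := d ≫ pullback.fst (x ≫ p) g ≫ c
    let s : Spec (CommRingCat.of L) ⟶ S' := d ≫ pullback.snd (x ≫ p) g
    have hx₁ : c' ≫ pullback.fst π₀ π₀ ≫ π₀ = c' ≫ pullback.snd π₀ π₀ ≫ π₀ := by
      simp only [pullback.condition]
    let u₁ := c' ≫ pullback.fst π₀ π₀ ≫ U.ι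
    let u₂ := c' ≫ pullback.snd π₀ π₀ ≫ U.ι
    have hs1 : u₁ ≫ r = s ≫ g := by
      have := congrArg (d ≫ ·) (pullback.condition (f := x ≫ p) (g := g))
      simp only [x, hπ₀, Category.assoc] at this
      simpa only [u₁, c', s, r, Category.assoc] using this
    have hs2 : u₂ ≫ r = s ≫ g := by
      rw [← hs1]
      have := congrArg (· ≫ p) hx₁
      simp only [hπ₀, Category.assoc] at this
      simpa only [u₁, u₂, r, Category.assoc] using this.symm
    let a₁ := pullback.lift u₁ s hs1
    let a₂ := pullback.lift u₂ s hs2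
    have hmem : ∀ (a : Spec (CommRingCat.of L) ⟶ pullback r g) (k : Spec (CommRingCat.of L) ⟶ U.toScheme),
        a ≫ b = k ≫ U.ι → ∀ t, a t ∈ γ.opensRange := by
      intro a k hk t
      have : b (a t) ∈ U := by
        rw [← Scheme.Hom.comp_apply, hk, Scheme.Hom.comp_apply]
        exact (k t).2
      rw [← SetLike.mem_coe, ← hsat]
      exact this
    have e₁ := key a₁ (hmem a₁ (c' ≫ pullback.fst π₀ π₀) (by simp [a₁, b, u₁, pullback.lift_fst]))
    have e₂ := key a₂ (hmem a₂ (c' ≫ pullback.snd π₀ π₀) (by simp [a₂, b, u₂, pullback.lift_fst]))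
    have eπ : a₁ ≫ π = a₂ ≫ π := by
      apply pullback.hom_ext
      · simpa [a₁, a₂, π, u₁, u₂, pullback.map, pullback.lift_fst, pullback.lift_fst_assoc, hπ₀] using hx₁
      · simp [a₁, a₂, π, pullback.map, pullback.lift_snd, pullback.lift_snd_assoc]
    have eu : u₁ = u₂ := by
      apply pullback.hom_ext
      · simpa [u₁, u₂, hπ₀] using hx₁
      · have e₃ : a₁ ≫ b ≫ pullback.snd p q = a₂ ≫ b ≫ pullback.snd p q :=
          e₁.trans ((by rw [← Category.assoc a₁, eπ, Category.assoc] :
            a₁ ≫ π ≫ φ = a₂ ≫ π ≫ φ).trans e₂.symm)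
        simpa [a₁, a₂, b, pullback.lift_fst_assoc] using e₃
    let pt : Spec (CommRingCat.of L) := IsLocalRing.closedPoint L
    refine ⟨(c' ≫ pullback.fst π₀ π₀) pt, ?_⟩
    have hcz : c' pt = z := by
      simp only [c', Scheme.Hom.comp_apply]
      exact Scheme.fromSpecResidueField_apply z _
    conv_rhs => rw [← hcz]
    rw [← Scheme.Hom.comp_apply]
    refine congrArg (fun m : Spec (CommRingCat.of L) ⟶ _ => m pt) ?_
    apply pullback.hom_ext
    · simp
    · rw [← cancel_mono U.ι]
      simpa [u₁, u₂] using eu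
  obtain ⟨⟨u, hu⟩, hrange, -⟩ := existsUnique_hom_of_open p q U hUinj hUsurj
  refine ⟨u, ⟨hu, ?_⟩, fun u' hu' => ?_⟩
  · haveI := isOpenImmersion_graph p q ⟨u, hu⟩
    let l := IsOpenImmersion.lift (graph p q ⟨u, hu⟩) (γ ≫ b) (by
      rw [hrange]
      rintro _ ⟨x', rfl⟩
      exact ⟨γ x', ⟨x', rfl⟩, rfl⟩)
    have hl : l ≫ graph p q ⟨u, hu⟩ = γ ≫ b := IsOpenImmersion.lift_fac _ _ _
    have h1 := congrArg (· ≫ pullback.fst p q) hl
    have h2 := congrArg (· ≫ pullback.snd p q) hl
    simp [γ, b, graph, pullback.lift_fst, pullback.lift_snd, pullback.lift_fst_assoc] at h1 h2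
    rw [← h2, h1]
  · haveI : Surjective (pullback.fst p g) := MorphismProperty.pullback_fst _ _ hgsurj
    haveI := isOpenImmersion_graph p q ⟨u, hu⟩
    let l := IsOpenImmersion.lift (graph p q ⟨u, hu⟩) (γ ≫ b) (by
      rw [hrange]
      rintro _ ⟨x', rfl⟩
      exact ⟨γ x', ⟨x', rfl⟩, rfl⟩)
    have hl : l ≫ graph p q ⟨u, hu⟩ = γ ≫ b := IsOpenImmersion.lift_fac _ _ _
    have h1 := congrArg (· ≫ pullback.fst p q) hl
    have h2 := congrArg (· ≫ pullback.snd p q) hl
    simp [γ, b, graph, pullback.lift_fst, pullback.lift_snd, pullback.lift_fst_assoc] at h1 h2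
    refine hom_ext_of_surjective q u' u (by rw [hu'.1, hu]) (pullback.fst p g) ?_
    rw [← hu'.2, ← h2, h1]

end Groth.Agent.DescEt12
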